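import Groth.Agent.FrobLCI.CE.Model
import Mathlib.Algebra.Category.ModuleCat.Projective
import Mathlib.Algebra.Category.ModuleCat.Ext.HasExt
import Mathlib.Algebra.Homology.DerivedCategory.Ext.Linear
import Mathlib.Algebra.Homology.ShortComplex.ModuleCat
import Mathlib.CategoryTheory.Abelian.Projective.Ext
import Mathlib.RingTheory.Regular.RegularSequence
import Mathlib.LinearAlgebra.StdBasis
import Mathlib.Data.Nat.Choose.Basic

/-!
# `Ext` from the quotient by a weakly regular sequence into a module killed by it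
-/

set_option autoImplicit false
set_option maxHeartbeats 1000000
set_option synthInstance.maxHeartbeats 400000

universe u

open CategoryTheory CategoryTheory.Limits RingTheory.Sequence Groth.FrobLCI.CE

namespace Groth.Misc7.RegSeq

variable {A : Type u} [CommRing A]

theorem card_idx : ∀ n i : ℕ, Fintype.card (idx n i) = n.choose i
  | 0, 0 => rfl
  | 0, _ + 1 => rfl
  | n + 1, 0 => by
    rw [Nat.choose_zero_right]
    exact (card_idx n 0).trans (Nat.choose_zero_right n)
  | n + 1, i + 1 => by
    rw [Nat.choose_succ_succ, ← card_idx n i, ← card_idx n (i + 1)]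
    exact Fintype.card_sum

/-- A weakly regular list, reversed, is a good tuple. -/
theorem exists_good (xs : List A) : IsWeaklyRegular A xs →
    ∃ x : Fin xs.length → A, Ideal.span (Set.range x) = Ideal.ofList xs ∧ Good A x := by
  induction xs using List.reverseRecOn with
  | nil => exact fun _ => ⟨Fin.elim0, by simp, trivial⟩
  | append_singleton ys a ih =>
    intro h
    obtain ⟨h1, h2⟩ := (isWeaklyRegular_append_iff A ys [a]).1 h
    rw [isWeaklyRegular_cons_iff] at h2
    obtain ⟨x, hx, hg⟩ := ih h1
    rw [show (ys ++ [a]).length = ys.length + 1 by simp]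
    refine ⟨Fin.cons a x, ?_, ?_⟩
    · rw [Fin.range_cons, Ideal.span_insert, hx, Ideal.ofList_append, Ideal.ofList_singleton, sup_comm]
    · show (∀ m : A, _ → _) ∧ Good A (Fin.tail (Fin.cons a x : Fin (ys.length + 1) → A))
      rw [Fin.tail_cons, Fin.cons_zero]
      refine ⟨fun m hm => ?_, hg⟩
      rw [hx] at hm ⊢
      have e : (Ideal.ofList ys • ⊤ : Submodule A A) = Ideal.ofList ys := by simp
      rw [e] at hm ⊢
      rw [← Submodule.Quotient.mk_eq_zero] at hm ⊢
      exact ((Submodule.quotEquivOfEq _ _ e).isSMulRegular_congr a).1 h2.1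
        (show a • (Submodule.Quotient.mk m : A ⧸ Ideal.ofList ys) = a • 0 by
          rw [← Submodule.Quotient.mk_smul, smul_zero]; exact hm)

variable {n : ℕ} (x : Fin n → A)

/-- The Koszul complex. -/
noncomputable def kcx : ChainComplex (ModuleCat.{u} A) ℕ :=
  ChainComplex.of (fun i => ModuleCat.of A (idx n i → A)) (fun i => ModuleCat.ofHom (dL x i)) fun i => by
    apply ModuleCat.hom_ext
    exact LinearMap.ext fun v => d_d x i v

lemma kcx_d (i : ℕ) : (kcx x).d (i + 1) i = ModuleCat.ofHom (dL x i) :=
  ChainComplex.of_d (fun i => ModuleCat.of A (idx n i → A)) (fun i => ModuleCat.ofHom (dL x i)) i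

lemma d_mem (i : ℕ) (v : idx n (i + 1) → A) (j : idx n i) : d x i v j ∈ Ideal.span (Set.range x) := by
  simpa using d_mem_smul_top x i v j

/-- The augmentation. -/
noncomputable def aug : (kcx x).X 0 ⟶ ModuleCat.of A (A ⧸ Ideal.span (Set.range x)) :=
  ModuleCat.ofHom (X := idx n 0 → A) ((Submodule.mkQ _) ∘ₗ LinearMap.proj (pt n))

/-- The augmentation as a chain map. -/
noncomputable def kπ : kcx x ⟶ (ChainComplex.single₀ _).obj (ModuleCat.of A (A ⧸ Ideal.span (Set.range x))) :=
  ((kcx x).toSingle₀Equiv _).symm ⟨aug x, by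
    rw [kcx_d]
    apply ModuleCat.hom_ext
    exact LinearMap.ext fun v => (Submodule.Quotient.mk_eq_zero _).2 (d_mem x 0 v _)⟩

lemma kπ_f_zero : (kπ x).f 0 = aug x := ChainComplex.toSingle₀Equiv_symm_apply_f_zero _ _

theorem quasiIso_kπ (hx : Good A x) : QuasiIso (kπ x) where
  quasiIsoAt m := by
    cases m with
    | zero =>
      rw [ChainComplex.quasiIsoAt₀_iff, ShortComplex.quasiIso_iff_of_zeros' _
        ((kcx x).shape _ _ (by simp)) (HomologicalComplex.single_obj_d (ComplexShape.down ℕ) _ _ _ _)
        (HomologicalComplex.single_obj_d (ComplexShape.down ℕ) _ _ _ _)]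
      constructor
      · rw [ShortComplex.moduleCat_exact_iff]
        intro v hv
        replace hv : ((kπ x).f 0).hom v = 0 := hv
        rw [kπ_f_zero] at hv
        obtain ⟨w, hw⟩ := exists_d_eq x ((v : idx n 0 → A) (pt n))
          (by simpa using (Submodule.Quotient.mk_eq_zero _).1 hv)
        refine ⟨w, ?_⟩
        show ((kcx x).d 1 0).hom w = v
        rw [kcx_d]
        exact funext fun j => by rw [eq_pt n j]; exact hw
      · show Epi ((kπ x).f 0)
        rw [kπ_f_zero]
        refine (ModuleCat.epi_iff_surjective _).2 fun a => ?_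
        obtain ⟨a, rfl⟩ := Submodule.Quotient.mk_surjective _ a
        exact ⟨fun _ => a, rfl⟩
    | succ m =>
      rw [quasiIsoAt_iff_exactAt' (hL := ChainComplex.exactAt_succ_single_obj ..),
        HomologicalComplex.exactAt_iff' _ (m + 2) (m + 1) m (by simp) (by simp),
        ShortComplex.moduleCat_exact_iff]
      intro v hv
      replace hv : ((kcx x).d (m + 1) m).hom v = 0 := hv
      rw [kcx_d] at hv
      obtain ⟨w, hw⟩ := exact_of_good x hx m v hv
      refine ⟨w, ?_⟩
      show ((kcx x).d (m + 2) (m + 1)).hom w = v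
      rw [kcx_d]
      exact hw

/-- The Koszul resolution. -/
noncomputable def kres (hx : Good A x) :
    ProjectiveResolution (ModuleCat.of A (A ⧸ Ideal.span (Set.range x))) where
  complex := kcx x
  projective i := (IsProjective.iff_projective _).1
    (inferInstanceAs (Module.Projective A (idx n i → A)))
  π := kπ x
  quasiIso := quasiIso_kπ x hx

open Abelian

/-- `Ext^i(A/I, M) = M^(n choose i)` for `M` killed by `I`. -/
theorem nonempty_extKilled (hx : Good A x) (M : ModuleCat.{u} A)
    (hM : ∀ a ∈ Ideal.span (Set.range x), ∀ m : M, a • m = 0) (i : ℕ) :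
    Nonempty (Ext (ModuleCat.of A (A ⧸ Ideal.span (Set.range x))) M i ≃ₗ[A] (Fin (n.choose i) → M)) := by
  let R := kres x hx
  have hf' : ∀ k (f : (idx n k → A) →ₗ[A] M) (v : idx n (k + 1) → A), f (d x k v) = 0 := fun k f v => by
    have e : (d x k v : idx n k → A) = ∑ j, d x k v j • Pi.single j (1 : A) := by
      conv_lhs => rw [← Finset.univ_sum_single (d x k v)]
      simp [← Pi.single_smul]
    rw [e, map_sum]
    exact Finset.sum_eq_zero fun j _ => by rw [map_smul]; exact hM _ (d_mem x k v j) _
  have hd : ∀ k (f : (kcx x).X k ⟶ M), (kcx x).d (k + 1) k ≫ f = 0 := fun k f => by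
    rw [kcx_d]
    apply ModuleCat.hom_ext
    apply LinearMap.ext
    intro v
    exact hf' k (f.hom : (idx n k → A) →ₗ[A] M) (v : idx n (k + 1) → A)
  let L : ((kcx x).X i ⟶ M) →ₗ[A] Ext (ModuleCat.of A (A ⧸ Ideal.span (Set.range x))) M i :=
    { toFun := fun f => R.extMk f (i + 1) rfl (hd i f)
      map_add' := fun f g => (R.add_extMk f g (i + 1) rfl (hd i f) (hd i g)).symm
      map_smul' := fun r f => by
        rw [RingHom.id_apply, Ext.smul_eq_comp_mk₀, R.extMk_comp_mk₀]
        congr 1 }
  have hL : Function.Bijective L := by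
    refine ⟨(injective_iff_map_eq_zero L).2 fun f hf => ?_, fun e => ?_⟩
    · cases i with
      | zero =>
        change R.extMk f 1 rfl (hd 0 f) = 0 at hf
        simp only [← R.extEquivCohomologyClass.apply_eq_iff_eq, ProjectiveResolution.extEquivCohomologyClass_extMk,
          ProjectiveResolution.extEquivCohomologyClass_zero, CochainComplex.HomComplex.CohomologyClass.mk_eq_zero_iff] at hf
        rw [CochainComplex.HomComplex.Cocycle.toSingleMk_mem_coboundaries_iff _ _ _ _ _ 1 (by simp)] at hf
        obtain ⟨g, hg⟩ := hf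
        have hz : IsZero (R.cochainComplex.X 1) := R.cochainComplex.isZero_of_isStrictlyLE 0 1 (by simp)
        rw [hz.eq_of_src g 0, comp_zero] at hg
        exact (cancel_epi (R.cochainComplexXIso (-((0 : ℕ) : ℤ)) 0 rfl).hom).1 (hg.symm.trans comp_zero.symm)
      | succ k =>
        obtain ⟨g, rfl⟩ := (R.extMk_eq_zero_iff f (k + 1 + 1) rfl (hd _ f) k rfl).1 hf
        exact hd k g
    · obtain ⟨f, hf, rfl⟩ := R.extMk_surjective e (i + 1) rfl
      exact ⟨f, rfl⟩
  exact ⟨(LinearEquiv.ofBijective L hL).symm ≪≫ₗ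
    ModuleCat.homLinearEquiv (S := A) (M := (kcx x).X i) (N := M) ≪≫ₗ
    ((Pi.basisFun A (idx n i)).constr A).symm ≪≫ₗ
    LinearEquiv.funCongrLeft A M (Fintype.equivFinOfCardEq (card_idx n i)).symm⟩

end Groth.Misc7.RegSeq
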