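import Groth.Agent.Calg7.Derived.LES
import Mathlib.Algebra.Category.ModuleCat.Monoidal.Closed
import Mathlib.Algebra.Category.ModuleCat.Projective
import Mathlib.Algebra.Category.ModuleCat.Ext.HasExt
import Mathlib.Algebra.Homology.DerivedCategory.Ext.ExactSequences
import Mathlib.Algebra.Homology.DerivedCategory.Ext.Linear
import Mathlib.Algebra.Homology.DerivedCategory.Ext.EnoughProjectives
import Mathlib.Algebra.Homology.ShortComplex.Linear
import Mathlib.Algebra.Homology.ShortComplex.ModuleCat
import Mathlib.RingTheory.Regular.RegularSequence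
import Mathlib.CategoryTheory.Monoidal.Tor
import Mathlib.Algebra.Module.Torsion.Basic

/-!
# Top `Ext` and `Tor` against the quotient by a weakly regular sequence
-/

set_option autoImplicit false
set_option maxHeartbeats 1000000
set_option synthInstance.maxHeartbeats 400000

universe u

open CategoryTheory CategoryTheory.Limits MonoidalCategory RingTheory.Sequence

namespace Groth.Misc7.RegSeq

variable {A : Type u} [CommRing A]

/-- The quotient by the ideal of a list. -/
noncomputable abbrev quotMod (xs : List A) : ModuleCat.{u} A := ModuleCat.of A (A ⧸ Ideal.ofList xs)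

lemma projective_quotMod_nil : Projective (quotMod ([] : List A)) :=
  haveI : Projective (ModuleCat.of A A) := (IsProjective.iff_projective A).1 inferInstance
  Projective.of_iso ((Submodule.quotEquivOfEqBot _ Ideal.ofList_nil).symm.toModuleIso) this

/-- `0 → A/I → A/I → A/(I + x) → 0`. -/
noncomputable abbrev stepSC (ys : List A) (x : A) : ShortComplex (ModuleCat.{u} A) :=
  ShortComplex.mk (x • 𝟙 (quotMod ys))
    (ModuleCat.ofHom (X := A ⧸ Ideal.ofList ys) (Y := A ⧸ Ideal.ofList (ys ++ [x]))
      (Submodule.mapQ _ _ LinearMap.id (by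
        intro a ha
        rw [Ideal.ofList_append]
        exact Submodule.mem_sup_left ha)))
    (by
      apply ModuleCat.hom_ext
      apply LinearMap.ext
      intro a
      obtain ⟨a, rfl⟩ := Submodule.Quotient.mk_surjective _ a
      show Submodule.mapQ (Ideal.ofList ys) (Ideal.ofList (ys ++ [x])) LinearMap.id (by
          intro b hb
          rw [Ideal.ofList_append]
          exact Submodule.mem_sup_left hb) (x • Submodule.Quotient.mk a) = (0 : A ⧸ Ideal.ofList (ys ++ [x]))
      rw [map_smul, Submodule.mapQ_apply, ← Submodule.Quotient.mk_smul, Submodule.Quotient.mk_eq_zero,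
        Ideal.ofList_append, Ideal.ofList_singleton]
      exact Submodule.mem_sup_right (Ideal.mem_span_singleton'.2 ⟨a, by simp [mul_comm]⟩))

lemma regular_of_append {ys : List A} {x : A} (h : IsWeaklyRegular A (ys ++ [x])) :
    IsWeaklyRegular A ys ∧ IsSMulRegular (A ⧸ Ideal.ofList ys) x := by
  obtain ⟨h1, h2⟩ := (isWeaklyRegular_append_iff A ys [x]).1 h
  refine ⟨h1, ?_⟩
  rw [isWeaklyRegular_cons_iff] at h2
  have e : (Ideal.ofList ys • ⊤ : Submodule A A) = Ideal.ofList ys := by simp
  exact ((Submodule.quotEquivOfEq _ _ e).isSMulRegular_congr x).1 h2.1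

lemma shortExact_stepSC {ys : List A} {x : A} (h : IsSMulRegular (A ⧸ Ideal.ofList ys) x) :
    (stepSC ys x).ShortExact := by
  refine ShortComplex.ShortExact.mk' ?_ ((ModuleCat.mono_iff_injective _).2 h)
    ((ModuleCat.epi_iff_surjective _).2 ?_)
  · rw [ShortComplex.moduleCat_exact_iff]
    intro a ha
    obtain ⟨a, rfl⟩ := Submodule.Quotient.mk_surjective _ a
    replace ha : (Submodule.Quotient.mk a : A ⧸ Ideal.ofList (ys ++ [x])) = 0 := ha
    rw [Submodule.Quotient.mk_eq_zero, Ideal.ofList_append, Ideal.ofList_singleton] at ha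
    obtain ⟨i, hi, j, hj, e⟩ := Submodule.mem_sup.1 ha
    obtain ⟨b, rfl⟩ := Ideal.mem_span_singleton'.1 hj
    refine ⟨Submodule.Quotient.mk b, ?_⟩
    show x • Submodule.Quotient.mk b = (Submodule.Quotient.mk a : A ⧸ Ideal.ofList ys)
    rw [← Submodule.Quotient.mk_smul, Submodule.Quotient.eq]
    have : x • b - a = -i := by
      rw [← e, smul_eq_mul]
      ring
    rw [this]
    exact neg_mem hi
  · intro a
    obtain ⟨a, rfl⟩ := Submodule.Quotient.mk_surjective _ a
    exact ⟨Submodule.Quotient.mk a, rfl⟩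

open Abelian

/-- `Ext` vanishes above the length. -/
theorem subsingleton_ext (xs : List A) : IsWeaklyRegular A xs → ∀ (M : ModuleCat.{u} A) (i : ℕ),
    xs.length < i → Subsingleton (Ext (quotMod xs) M i) := by
  induction xs using List.reverseRecOn with
  | nil =>
    intro _ M i hi
    obtain ⟨i, rfl⟩ : ∃ k, i = k + 1 := ⟨i - 1, by simp at hi; omega⟩
    haveI := projective_quotMod_nil (A := A)
    exact Ext.subsingleton_of_projective _ _ i
  | append_singleton ys x ih =>
    intro h M i hi
    obtain ⟨hys, hx⟩ := regular_of_append h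
    rw [List.length_append, List.length_singleton] at hi
    refine subsingleton_of_forall_eq 0 fun e => ?_
    obtain ⟨e', rfl⟩ := Ext.contravariant_sequence_exact₃ (shortExact_stepSC hx) M e
      ((ih hys M i (by omega)).elim _ _) (n₀ := i - 1) (by omega)
    rw [(ih hys M (i - 1) (by omega)).elim e' 0, Ext.comp_zero]

/-- `Ext^n(A/(x), M) = M/(x)M`. -/
theorem exists_extTop (xs : List A) : IsWeaklyRegular A xs → ∀ (M : ModuleCat.{u} A),
    ∃ φ : M →ₗ[A] Ext (quotMod xs) M xs.length, Function.Surjective φ ∧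
      LinearMap.ker φ = Ideal.ofList xs • (⊤ : Submodule A M) := by
  induction xs using List.reverseRecOn with
  | nil =>
    intro _ M
    have e₁ : (A ⧸ Ideal.ofList ([] : List A)) ≃ₗ[A] A := Submodule.quotEquivOfEqBot _ Ideal.ofList_nil
    let e : M ≃ₗ[A] Ext (quotMod ([] : List A)) M 0 :=
      (LinearMap.ringLmapEquivSelf A A M).symm ≪≫ₗ (LinearEquiv.arrowCongr e₁ (LinearEquiv.refl A M)).symm ≪≫ₗ
        (ModuleCat.homLinearEquiv (S := A) (M := quotMod ([] : List A)) (N := M)).symm ≪≫ₗ (Ext.linearEquiv₀ (R := A)).symm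
    refine ⟨e.toLinearMap, e.surjective, ?_⟩
    rw [LinearMap.ker_eq_bot.2 e.injective, Ideal.ofList_nil, Submodule.bot_smul]
  | append_singleton ys x ih =>
    intro h M
    obtain ⟨hys, hx⟩ := regular_of_append h
    obtain ⟨φ, hφ, hk⟩ := ih hys M
    have hS := shortExact_stepSC hx
    rw [show (ys ++ [x]).length = ys.length + 1 by simp]
    let δ : Ext (quotMod ys) M ys.length →ₗ[A] Ext (quotMod (ys ++ [x])) M (ys.length + 1) :=
      { toFun := fun e => hS.extClass.comp e (by omega)
        map_add' := fun a b => by simp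
        map_smul' := fun r a => by simp }
    have hf : ∀ e : Ext (quotMod ys) M ys.length, (Ext.mk₀ (stepSC ys x).f).comp e (zero_add _) = x • e := fun e => by
      show (Ext.mk₀ (x • 𝟙 _)).comp e _ = _
      rw [Ext.mk₀_smul, Ext.smul_comp, Ext.mk₀_id_comp]
    have hδ : ∀ e, δ e = 0 ↔ ∃ e', x • e' = e := fun e => by
      constructor
      · intro he
        obtain ⟨e', he'⟩ := Ext.contravariant_sequence_exact₁ hS M e (by omega) he
        exact ⟨e', (hf e').symm.trans he'⟩
      · rintro ⟨e', rfl⟩
        rw [← hf]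
        show hS.extClass.comp ((Ext.mk₀ (stepSC ys x).f).comp e' (zero_add _)) (Nat.add_comm 1 _) = 0
        rw [← Ext.comp_assoc hS.extClass (Ext.mk₀ (stepSC ys x).f) e' (add_zero 1) (zero_add _) (by omega),
          hS.extClass_comp, Ext.zero_comp]
    refine ⟨δ ∘ₗ φ, fun e => ?_, le_antisymm (fun m hm => ?_) ?_⟩
    · obtain ⟨e', he'⟩ := Ext.contravariant_sequence_exact₃ hS M e
        ((subsingleton_ext ys hys M _ (Nat.lt_succ_self _)).elim _ _) (n₀ := ys.length) (by omega)
      obtain ⟨m, rfl⟩ := hφ e'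
      exact ⟨m, he'⟩
    · obtain ⟨e', he'⟩ := (hδ (φ m)).1 hm
      obtain ⟨b, rfl⟩ := hφ e'
      rw [Ideal.ofList_append, Submodule.sup_smul, Ideal.ofList_singleton]
      refine Submodule.mem_sup.2 ⟨m - x • b, ?_, x • b, ?_, sub_add_cancel _ _⟩
      · rw [← hk, LinearMap.mem_ker, map_sub, map_smul, he', sub_self]
      · exact Submodule.smul_mem_smul (Ideal.mem_span_singleton_self x) trivial
    · rw [Ideal.ofList_append, Submodule.sup_smul, Ideal.ofList_singleton, ← hk]
      refine sup_le (fun m hm => ?_) ?_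
      · show δ (φ m) = 0
        rw [LinearMap.mem_ker.1 hm, map_zero]
      · rw [Submodule.ideal_span_singleton_smul]
        rintro _ ⟨b, -, rfl⟩
        show δ (φ (x • b)) = 0
        rw [map_smul]
        exact (hδ _).2 ⟨φ b, rfl⟩

variable (M : ModuleCat.{u} A)

/-- `Tor'` as a left derived functor in the first variable. -/
noncomputable abbrev TF (n : ℕ) : ModuleCat.{u} A ⥤ ModuleCat.{u} A :=
  ((tensoringRight (ModuleCat.{u} A)).obj M).leftDerived n

lemma leftDerived_map_smul (n : ℕ) (X : ModuleCat.{u} A) (r : A) :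
    (TF M n).map (r • 𝟙 X) = r • 𝟙 _ := by
  let P := Groth.Calg7.Derived.res X
  have e := ProjectiveResolution.isoLeftDerivedObj_hom_naturality (r • 𝟙 X) P P (r • 𝟙 _)
    (by simp) ((tensoringRight (ModuleCat.{u} A)).obj M) n
  rw [← cancel_mono (P.isoLeftDerivedObj ((tensoringRight (ModuleCat.{u} A)).obj M) n).hom, e]
  have h : (HomologicalComplex.shortComplexFunctor (ModuleCat.{u} A) (ComplexShape.down ℕ) n).map
      ((((tensoringRight (ModuleCat.{u} A)).obj M).mapHomologicalComplex _).map (r • 𝟙 P.complex)) = r • 𝟙 _ := by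
    ext1 <;>
    · change (r • 𝟙 _) ▷ M = r • 𝟙 _
      rw [MonoidalLinear.smul_whiskerRight, id_whiskerRight]
      rfl
  have h' : (((tensoringRight (ModuleCat.{u} A)).obj M).mapHomologicalComplex _ ⋙
      HomologicalComplex.homologyFunctor _ _ n).map (r • 𝟙 P.complex) = r • 𝟙 _ := by
    change ShortComplex.homologyMap _ = _
    rw [h, ShortComplex.homologyMap_smul, ShortComplex.homologyMap_id]
    rfl
  rw [h', Linear.smul_comp, Linear.comp_smul, Category.id_comp]
  erw [Category.comp_id]

/-- `Tor` vanishes above the length. -/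
theorem isZero_TF (xs : List A) : IsWeaklyRegular A xs → ∀ i : ℕ, xs.length < i →
    IsZero ((TF M i).obj (quotMod xs)) := by
  induction xs using List.reverseRecOn with
  | nil =>
    intro _ i hi
    obtain ⟨i, rfl⟩ : ∃ k, i = k + 1 := ⟨i - 1, by simp at hi; omega⟩
    haveI := projective_quotMod_nil (A := A)
    exact Functor.isZero_leftDerived_obj_projective_succ _ i _
  | append_singleton ys x ih =>
    intro h i hi
    obtain ⟨hys, hx⟩ := regular_of_append h
    rw [List.length_append, List.length_singleton] at hi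
    obtain ⟨i, rfl⟩ : ∃ k, i = k + 1 := ⟨i - 1, by omega⟩
    exact Groth.Calg7.Derived.isZero_X₃ _ (shortExact_stepSC hx) i (ih hys _ (by omega)) (ih hys _ (by omega))

/-- `Tor_n(A/(x), M) = (0 :_M (x))`. -/
theorem exists_torTop (xs : List A) : IsWeaklyRegular A xs →
    ∃ ψ : (TF M xs.length).obj (quotMod xs) →ₗ[A] M, Function.Injective ψ ∧
      ∀ m : M, m ∈ LinearMap.range ψ ↔ ∀ a ∈ Ideal.ofList xs, a • m = 0 := by
  induction xs using List.reverseRecOn with
  | nil =>
    intro _
    haveI : PreservesFiniteColimits ((tensoringRight (ModuleCat.{u} A)).obj M) :=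
      preservesFiniteColimits_of_natIso (BraidedCategory.tensorLeftIsoTensorRight M)
    let e : (TF M 0).obj (quotMod ([] : List A)) ≅ M :=
      ((tensoringRight (ModuleCat.{u} A)).obj M).leftDerivedZeroIsoSelf.app _ ≪≫
        whiskerRightIso ((Submodule.quotEquivOfEqBot _ Ideal.ofList_nil).toModuleIso : quotMod ([] : List A) ≅ 𝟙_ (ModuleCat.{u} A)) M ≪≫
        λ_ M
    refine ⟨e.hom.hom, e.toLinearEquiv.injective, fun m => ⟨fun _ a ha => ?_, fun _ => ?_⟩⟩
    · rw [Ideal.ofList_nil] at ha
      rw [Submodule.mem_bot A |>.1 ha, zero_smul]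
    · exact ⟨e.toLinearEquiv.symm m, e.toLinearEquiv.apply_symm_apply m⟩
  | append_singleton ys x ih =>
    intro h
    obtain ⟨hys, hx⟩ := regular_of_append h
    obtain ⟨ψ, hψ, hr⟩ := ih hys
    have hS := shortExact_stepSC hx
    rw [show (ys ++ [x]).length = ys.length + 1 by simp]
    let F := (tensoringRight (ModuleCat.{u} A)).obj M
    let δ : (TF M (ys.length + 1)).obj (quotMod (ys ++ [x])) →ₗ[A] (TF M ys.length).obj (quotMod ys) :=
      (Groth.Calg7.Derived.δ F hS ys.length).hom
    haveI : Mono (Groth.Calg7.Derived.δ F hS ys.length) :=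
      (Groth.Calg7.Derived.exact₃ F hS ys.length).mono_g
        ((isZero_TF M ys hys _ (Nat.lt_succ_self _)).eq_of_src _ _)
    have hδ : ∀ t, t ∈ LinearMap.range δ ↔ x • t = 0 := fun t => by
      have e : ((TF M ys.length).map (stepSC ys x).f).hom t = x • t := by
        rw [show (TF M ys.length).map (stepSC ys x).f = x • 𝟙 _ from leftDerived_map_smul M _ _ x]
        rfl
      rw [← e]
      refine ⟨?_, fun ht => (ShortComplex.moduleCat_exact_iff _).1 (Groth.Calg7.Derived.exact₁ F hS ys.length) t ht⟩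
      rintro ⟨s, rfl⟩
      exact congrArg (fun f : ((TF M (ys.length + 1)).obj (quotMod (ys ++ [x]))) ⟶ _ => f.hom s)
        (Groth.Calg7.Derived.δ_map_f F hS ys.length)
    refine ⟨ψ ∘ₗ δ, hψ.comp ((ModuleCat.mono_iff_injective (Groth.Calg7.Derived.δ F hS ys.length)).1 inferInstance),
      fun m => ⟨?_, fun hm => ?_⟩⟩
    · rintro ⟨s, rfl⟩ a ha
      rw [Ideal.ofList_append, Ideal.ofList_singleton] at ha
      obtain ⟨i, hi, j, hj, rfl⟩ := Submodule.mem_sup.1 ha
      obtain ⟨b, rfl⟩ := Ideal.mem_span_singleton'.1 hj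
      rw [add_smul, mul_smul, LinearMap.comp_apply, (hr _).1 ⟨_, rfl⟩ i hi, zero_add, ← map_smul,
        (hδ _).1 ⟨s, rfl⟩, map_zero, smul_zero]
    · rw [Ideal.ofList_append, Ideal.ofList_singleton] at hm
      obtain ⟨t, rfl⟩ := (hr m).2 fun a ha => hm a (Submodule.mem_sup_left ha)
      obtain ⟨s, rfl⟩ := (hδ t).2 (hψ (by
        rw [map_smul, map_zero]
        exact hm x (Submodule.mem_sup_right (Ideal.mem_span_singleton_self x))))
      exact ⟨s, rfl⟩

end Groth.Misc7.RegSeq
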